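/-
The arithmetic of pairs of coprime numbers with two prime divisors.
-/
import Mathlib.Data.Nat.Prime.Basic
import Mathlib.Data.Nat.Factorization.Basic
import Mathlib.Tactic

set_option autoImplicit false

namespace CfsgLib.HerzogThree

/-- every prime divisor is `p` or `q` -/
def TwoSupp (p q n : ℕ) : Prop := ∀ t : ℕ, t.Prime → t ∣ n → t = p ∨ t = q

/-- coprime numbers greater than one supported on two primes are powers of different primes -/
theorem exists_prime_pows {p q n m : ℕ} (hn : TwoSupp p q n) (hm : TwoSupp p q m)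
    (hn1 : 1 < n) (hm1 : 1 < m) (hcop : n.Coprime m) :
    ∃ r s i j : ℕ, r.Prime ∧ s.Prime ∧ r ≠ s ∧ n = r ^ i ∧ m = s ^ j ∧ 0 < i ∧ 0 < j ∧
      ∀ t : ℕ, t = p ∨ t = q → t = r ∨ t = s := by
  obtain ⟨r, hr, hrn⟩ := Nat.exists_prime_and_dvd (n := n) (by omega)
  obtain ⟨s, hs, hsm⟩ := Nat.exists_prime_and_dvd (n := m) (by omega)
  have hrs : r ≠ s := fun h => Nat.Prime.not_dvd_one hr (hcop ▸ Nat.dvd_gcd hrn (h ▸ hsm))
  have hcov : ∀ t : ℕ, t = p ∨ t = q → t = r ∨ t = s := by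
    have h1 := hn r hr hrn
    have h2 := hm s hs hsm
    intro t ht
    omega
  have hno : ∀ t : ℕ, t.Prime → t ∣ n → t = r := by
    intro t ht htn
    rcases hcov t (hn t ht htn) with h | h
    · exact h
    · exact absurd (hcop ▸ Nat.dvd_gcd htn (h ▸ hsm)) ht.not_dvd_one
  have hno' : ∀ t : ℕ, t.Prime → t ∣ m → t = s := by
    intro t ht htm
    rcases hcov t (hm t ht htm) with h | h
    · exact absurd (hcop ▸ Nat.dvd_gcd (h ▸ hrn) htm) ht.not_dvd_one
    · exact h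
  have e1 := Nat.eq_prime_pow_of_unique_prime_dvd (by omega) (fun {t} ht htn => hno t ht htn)
  have e2 := Nat.eq_prime_pow_of_unique_prime_dvd (by omega) (fun {t} ht htm => hno' t ht htm)
  refine ⟨r, s, _, _, hr, hs, hrs, e1, e2, Nat.pos_of_ne_zero fun h => ?_,
    Nat.pos_of_ne_zero fun h => ?_, hcov⟩
  · rw [h, pow_zero] at e1; omega
  · rw [h, pow_zero] at e2; omega

/-- a number supported on two primes and prime to one of them is a power of the other -/
theorem eq_pow_of_not_dvd {p q r s n : ℕ} (hn : TwoSupp p q n) (hn0 : n ≠ 0)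
    (hcov : ∀ t : ℕ, t = p ∨ t = q → t = r ∨ t = s) (hs : ¬ s ∣ n) :
    ∃ i : ℕ, n = r ^ i :=
  ⟨_, Nat.eq_prime_pow_of_unique_prime_dvd hn0 fun {t} ht htn => by
    rcases hcov t (hn t ht htn) with h | h
    · exact h
    · exact absurd (h ▸ htn) hs⟩

/-- the sum of two powers of an odd prime is twice a power only trivially -/
theorem pow_eq_of_add_eq {r : ℕ} (hr : r.Prime) (hr2 : r ≠ 2) {k l j : ℕ}
    (h : r ^ k + r ^ l = 2 * r ^ j) : r ^ k = r ^ j := by
  have hcop : Nat.Coprime r 2 := (Nat.coprime_primes hr Nat.prime_two).mpr hr2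
  have key : ∀ k l : ℕ, k < l → r ^ k + r ^ l = 2 * r ^ j → False := by
    intro k l hkl h
    obtain ⟨d, rfl⟩ : ∃ d, l = k + (d + 1) := ⟨l - k - 1, by omega⟩
    have h1 : r ^ k * (1 + r ^ (d + 1)) = 2 * r ^ j := by rw [← h]; ring
    have hd : ¬ r ∣ 1 + r ^ (d + 1) := fun hdvd =>
      hr.not_dvd_one ((Nat.dvd_add_left (dvd_pow_self r (by omega))).mp hdvd)
    have h2 : r ^ j ∣ r ^ k := by
      refine Nat.Coprime.dvd_of_dvd_mul_right ?_ (Dvd.intro_left 2 h1.symm)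
      exact Nat.Coprime.pow_left j ((Nat.Prime.coprime_iff_not_dvd hr).mpr hd)
    have h3 : r ^ k ∣ r ^ j := by
      refine Nat.Coprime.dvd_of_dvd_mul_left ?_ (Dvd.intro _ h1)
      exact hcop.pow_left k
    have h4 := Nat.dvd_antisymm h3 h2
    rw [← h4, mul_comm 2] at h1
    have h5 := Nat.eq_of_mul_eq_mul_left (pow_pos hr.pos k) h1
    have h6 : 3 ≤ r ^ (d + 1) := le_trans (by have := hr.two_le; omega) (Nat.le_self_pow (by omega) r)
    omega
  rcases lt_trichotomy k l with hkl | hkl | hkl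
  · exact (key k l hkl h).elim
  · subst hkl; omega
  · exact (key l k hkl (by omega)).elim

/-- no two pairs can sum to twice a member of a third one -/
theorem no_pairs {p q a a' b b' X t : ℕ} (hp2 : p ≠ 2) (hq2 : q ≠ 2)
    (ha : TwoSupp p q a) (ha' : TwoSupp p q a') (hb : TwoSupp p q b) (hb' : TwoSupp p q b')
    (hX : TwoSupp p q X) (ht : TwoSupp p q t)
    (ha1 : 1 < a) (ha'1 : 1 < a') (hb1 : 1 < b) (hb'1 : 1 < b') (hX1 : 1 < X) (ht1 : 1 < t)
    (haa : a.Coprime a') (hbb : b.Coprime b') (hXt : X.Coprime t)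
    (hsum : a + b = 2 * X) (hta : a = X → Nat.Coprime t a') : False := by
  obtain ⟨s, r, j, i, hs, hr, hsr, rfl, rfl, hj, hi, hcov⟩ := exists_prime_pows hX ht hX1 ht1 hXt
  have hne2 : ∀ {u : ℕ}, u.Prime → (∃ n, 1 < n ∧ TwoSupp p q n ∧ u ∣ n) → u ≠ 2 := by
    rintro u hu ⟨n, -, hn, hun⟩ rfl
    rcases hn 2 hu hun with h | h
    · exact hp2 h.symm
    · exact hq2 h.symm
  have hs2 : s ≠ 2 := hne2 hs ⟨_, hX1, hX, dvd_pow_self s hj.ne'⟩
  have hr2 : r ≠ 2 := hne2 hr ⟨_, ht1, ht, dvd_pow_self r hi.ne'⟩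
  obtain ⟨u, u', k, k', hu, hu', huu, rfl, rfl, hk, hk', hcovu⟩ :=
    exists_prime_pows ha ha' ha1 ha'1 haa
  obtain ⟨v, v', l, l', hv, hv', hvv, rfl, rfl, hl, hl', hcovv⟩ :=
    exists_prime_pows hb hb' hb1 hb'1 hbb
  have hu_mem : u = s ∨ u = r := hcov u (ha u hu (dvd_pow_self u hk.ne'))
  have hv_mem : v = s ∨ v = r := hcov v (hb v hv (dvd_pow_self v hl.ne'))
  have hu'_mem : u' = s ∨ u' = r := hcov u' (ha' u' hu' (dvd_pow_self u' hk'.ne'))
  have hodd : ∀ {z : ℕ}, z.Prime → z ≠ 2 → z ≠ s → z ∣ 2 * s ^ j → False := by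
    intro z hz hz2 hzs h
    rcases hz.dvd_mul.mp h with h | h
    · exact hz2 ((Nat.prime_dvd_prime_iff_eq hz Nat.prime_two).mp h)
    · exact hzs ((Nat.prime_dvd_prime_iff_eq hz hs).mp (hz.dvd_of_dvd_pow h))
  have hd : ∀ {z : ℕ} {m : ℕ}, 0 < m → z ∣ z ^ m := fun hm => dvd_pow_self _ hm.ne'
  rcases hu_mem with hus | hur <;> rcases hv_mem with hvs | hvr
  · rw [hus, hvs] at hsum
    have heq := pow_eq_of_add_eq hs hs2 hsum
    have hu'r : u' = r := hu'_mem.resolve_left (fun h => huu (hus.trans h.symm))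
    have hc := hta (by rw [hus]; exact heq)
    rw [hu'r] at hc
    exact hr.not_dvd_one (hc ▸ Nat.dvd_gcd (hd hi) (hd hk'))
  · rw [hus, hvr] at hsum
    have h1 : s ∣ 2 * s ^ j - s ^ k := Nat.dvd_sub (dvd_mul_of_dvd_right (hd hj) 2) (hd hk)
    rw [show 2 * s ^ j - s ^ k = r ^ l by omega] at h1
    exact hsr ((Nat.prime_dvd_prime_iff_eq hs hr).mp (hs.dvd_of_dvd_pow h1))
  · rw [hur, hvs] at hsum
    have h1 : s ∣ 2 * s ^ j - s ^ l := Nat.dvd_sub (dvd_mul_of_dvd_right (hd hj) 2) (hd hl)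
    rw [show 2 * s ^ j - s ^ l = r ^ k by omega] at h1
    exact hsr ((Nat.prime_dvd_prime_iff_eq hs hr).mp (hs.dvd_of_dvd_pow h1))
  · rw [hur, hvr] at hsum
    exact hodd hr hr2 (Ne.symm hsr) (hsum ▸ Nat.dvd_add (hd hk) (hd hl))

/-- if one of the members is `3`, then so is the other one -/
theorem three_case {p q w D A : ℕ} (hp2 : p ≠ 2) (hq2 : q ≠ 2) (h3 : 3 = p ∨ 3 = q)
    (hw : TwoSupp p q w) (hD : TwoSupp p q D) (hA : TwoSupp p q A)
    (hx : TwoSupp p q (w + 2)) (hwD : w = 2 * D + 1) (hA2 : w + 3 = 2 * A) (hD1 : 1 < D) :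
    False := by
  have hxA : Nat.Coprime (w + 2) A := by
    refine Nat.coprime_of_dvd' fun k _ h1 h2 => ?_
    have h4 := Nat.dvd_sub (h2.trans (dvd_mul_left A 2)) h1
    rwa [← hA2, show w + 3 - (w + 2) = 1 by omega] at h4
  have hwD' : Nat.Coprime w D := by
    refine Nat.coprime_of_dvd' fun k _ h1 h2 => ?_
    have h4 := Nat.dvd_sub h1 (h2.trans (dvd_mul_left D 2))
    rwa [hwD, show 2 * D + 1 - 2 * D = 1 by omega] at h4
  obtain ⟨r, s, i, j, hr, hs, hrs, hxe, rfl, hi, hj, hcov⟩ :=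
    exists_prime_pows hx hA (by omega) (by omega) hxA
  obtain ⟨u, u', l, l', hu, hu', huu, rfl, rfl, hl, hl', -⟩ :=
    exists_prime_pows hw hD (by omega) hD1 hwD'
  have hu2 : u ≠ 2 := by
    intro h
    rcases hw u hu (dvd_pow_self u hl.ne') with h' | h' <;> omega
  rcases hcov u (hw u hu (dvd_pow_self u hl.ne')) with rfl | rfl
  · have h1 : u ∣ u ^ l + 2 - u ^ l :=
      Nat.dvd_sub (hxe ▸ dvd_pow_self u hi.ne') (dvd_pow_self u hl.ne')
    rw [show u ^ l + 2 - u ^ l = 2 by omega] at h1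
    exact hu2 ((Nat.prime_dvd_prime_iff_eq hu Nat.prime_two).mp h1)
  · have h1 : u ∣ 2 * u ^ j - u ^ l :=
      Nat.dvd_sub (dvd_mul_of_dvd_right (dvd_pow_self u hj.ne') 2) (dvd_pow_self u hl.ne')
    rw [show 2 * u ^ j - u ^ l = 3 by omega] at h1
    have h4 := (Nat.prime_dvd_prime_iff_eq hu Nat.prime_three).mp h1
    subst h4
    have h5 := pow_eq_of_add_eq (r := 3) Nat.prime_three (by norm_num) (k := 1) (l := l) (j := j)
      (by rw [pow_one]; omega)
    omega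

end CfsgLib.HerzogThree
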