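/-
Characters of prime power degree in a non-abelian simple group and abelian Sylow subgroups.
-/
import Cfsg.Agent.Blocks.Basic.Principal
import Cfsg.Agent.Chars.Apps.RootSums
import Cfsg.Agent.ZStar.Quaternion

set_option autoImplicit false
set_option linter.style.haveILetI false

universe u

open Cfsg

namespace CfsgLib.HerzogThree

open CfsgLib

variable {G : Type u} [Group G] [Finite G] [IsSimpleGroup G]

omit [Finite G] in
theorem center_eq_bot (hna : ¬ IsMulCommutative G) : Subgroup.center G = ⊥ := by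
  rcases (inferInstance : (Subgroup.center G).Normal).eq_bot_or_eq_top with h | h
  · exact h
  · exact absurd ⟨⟨fun a b => (Subgroup.mem_center_iff.mp (h ▸ Subgroup.mem_top a) b).symm⟩⟩ hna

theorem one_lt_charDegree (hna : ¬ IsMulCommutative G) {χ : IrrCharacter G}
    (hχ : (χ : G → ℂ) ≠ fun _ => 1) : 1 < charDegree (χ : G → ℂ) := by
  by_contra hlt
  have h0 := Chars.charDegree_pos χ
  have h1 : (χ : G → ℂ) 1 = 1 := by
    rw [← Chars.coe_charDegree, show charDegree (χ : G → ℂ) = 1 by omega, Nat.cast_one]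
  obtain ⟨l, hl⟩ := Chars.exists_linChar_eq χ h1
  have hker : l.ker = ⊤ := by
    rcases l.normal_ker.eq_bot_or_eq_top with hb | ht
    · exact absurd ⟨⟨fun a b => l.ker_eq_bot_iff.mp hb (by rw [map_mul, map_mul, mul_comm])⟩⟩ hna
    · exact ht
  refine hχ (funext fun g => ?_)
  have hg : l g = 1 := by rw [← MonoidHom.mem_ker, hker]; trivial
  simp [← hl, Chars.linChar_apply, hg]

omit [IsSimpleGroup G] in
theorem charKer_eq_bot [IsSimpleGroup G] {χ : IrrCharacter G}
    (hd : 1 < charDegree (χ : G → ℂ)) : Chars.charKer (χ : G → ℂ) = ⊥ := by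
  haveI := Chars.charKer_normal (Chars.isClassFunction_coe χ)
  rcases (inferInstance : (Chars.charKer (χ : G → ℂ)).Normal).eq_bot_or_eq_top with h | h
  · exact h
  · exfalso
    have h1 := Chars.charDegree_dvd_index_charKer χ
    rw [h, Subgroup.index_top, Nat.dvd_one] at h1
    omega

/-- a character of degree prime to the class size of `g` vanishes at `g` -/
theorem apply_eq_zero_of_coprime (hna : ¬ IsMulCommutative G) {χ : IrrCharacter G}
    (hd : 1 < charDegree (χ : G → ℂ)) {g : G} (hg : g ≠ 1)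
    (hcop : (Subgroup.centralizer ({g} : Set G)).index.Coprime (charDegree (χ : G → ℂ))) :
    (χ : G → ℂ) g = 0 := by
  have := Fintype.ofFinite G
  have hker := charKer_eq_bot hd
  obtain ⟨n, ρ, hρ, hρc⟩ := χ.2
  have hn : (χ : G → ℂ) 1 = (n : ℂ) := by
    rw [← hρc, Representation.char_one, Module.finrank_fin_fun]
  have hn' : charDegree (χ : G → ℂ) = n := Chars.charDegree_eq_of_map_one hn
  have hint : IsIntegral ℤ (ρ.character g / (n : ℂ)) := by
    refine Chars.Apps.isIntegral_div_of_coprime (Chars.Apps.isIntegral_char ρ g)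
      (m := (Subgroup.centralizer ({g} : Set G)).index) (b := n) (hn' ▸ hcop) ?_
    have hci := Blocks.centralChar_isIntegral χ.2 g
    rwa [centralChar, hn, ← hρc] at hci
  rcases Chars.Apps.char_eq_zero_or_norm_eq ρ g hint with h0 | hnorm
  · rw [← hρc]; exact h0
  · exfalso
    obtain ⟨c, hc⟩ := Chars.Apps.exists_smul_of_norm_char_eq ρ g hnorm
    have hcen : g ∈ Subgroup.center G := Subgroup.mem_center_iff.mpr fun x => by
      have h1 : g * x * g⁻¹ * x⁻¹ ∈ Chars.charKer (χ : G → ℂ) := by
        rw [← hρc, Chars.mem_charKer_iff_rep, map_mul, map_mul, map_mul]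
        have : ρ g * ρ x = ρ x * ρ g := by rw [hc]; simp
        rw [this, mul_assoc (ρ x), ← map_mul, mul_inv_cancel, map_one, mul_one, ← map_mul,
          mul_inv_cancel, map_one]
      rw [hker, Subgroup.mem_bot] at h1
      calc x * g = g * x * g⁻¹ * x⁻¹ * (x * g) := by rw [h1, one_mul]
        _ = g * x := by group
    rw [center_eq_bot hna, Subgroup.mem_bot] at hcen
    exact hg hcen

/-- the order of an abelian Sylow `r`-subgroup divides every `r`-power degree -/
theorem card_sylow_dvd (hna : ¬ IsMulCommutative G) {r : ℕ} [Fact r.Prime] (R : Sylow r G)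
    (hR : IsMulCommutative (R : Subgroup G)) {χ : IrrCharacter G}
    (hd : 1 < charDegree (χ : G → ℂ)) (hpow : ∃ j : ℕ, charDegree (χ : G → ℂ) = r ^ j) :
    Nat.card (R : Subgroup G) ∣ charDegree (χ : G → ℂ) := by
  classical
  obtain ⟨j, hj⟩ := hpow
  haveI := Fintype.ofFinite (R : Subgroup G)
  obtain ⟨m, hm⟩ := CfsgLib.ZStar.exists_nat_sum_hom_mul (R : Subgroup G).subtype
    (Chars.isCharacter_coe χ) 1
  simp only [MonoidHom.one_apply, Units.val_one, one_mul, Subgroup.subtype_apply] at hm
  rw [Finset.sum_eq_single (1 : (R : Subgroup G))] at hm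
  · rw [OneMemClass.coe_one, ← Chars.coe_charDegree] at hm
    exact ⟨m, by exact_mod_cast hm⟩
  · intro x _ hx
    refine apply_eq_zero_of_coprime hna hd (fun h => hx (Subtype.ext h)) ?_
    rw [hj]
    refine Nat.Coprime.pow_right _ (Nat.Coprime.symm ((Nat.Prime.coprime_iff_not_dvd Fact.out).mpr ?_))
    intro h
    refine R.not_dvd_index (h.trans (Subgroup.index_dvd_of_le fun y hy => ?_))
    rw [Subgroup.mem_centralizer_singleton_iff]
    exact congrArg Subtype.val (hR.is_comm.comm (⟨y, hy⟩ : (R : Subgroup G)) x)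
  · intro h
    exact absurd (Finset.mem_univ _) h

/-- a Sylow `r`-subgroup is abelian when there is a character of degree `r` -/
theorem isMulCommutative_sylow (hna : ¬ IsMulCommutative G) {r : ℕ} [hr : Fact r.Prime]
    (R : Sylow r G) {χ : IrrCharacter G} (hd : charDegree (χ : G → ℂ) = r) :
    IsMulCommutative (R : Subgroup G) := by
  classical
  have hd1 : 1 < charDegree (χ : G → ℂ) := hd ▸ hr.out.one_lt
  rcases eq_or_ne (R : Subgroup G) ⊥ with hbot | hbot
  · rw [hbot]; infer_instance
  haveI : Nontrivial (R : Subgroup G) := (Subgroup.nontrivial_iff_ne_bot _).mpr hbot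
  haveI := R.2.center_nontrivial
  obtain ⟨z, hz⟩ := exists_ne (1 : Subgroup.center (R : Subgroup G))
  have hz0 : ((z : (R : Subgroup G)) : G) ≠ 1 := fun h => hz (Subtype.ext (Subtype.ext h))
  have hvan : (χ : G → ℂ) (z : (R : Subgroup G)) = 0 := by
    refine apply_eq_zero_of_coprime hna hd1 hz0 ?_
    rw [hd]
    refine Nat.Coprime.symm ((Nat.Prime.coprime_iff_not_dvd hr.out).mpr ?_)
    intro h
    refine R.not_dvd_index (h.trans (Subgroup.index_dvd_of_le fun y hy => ?_))
    rw [Subgroup.mem_centralizer_singleton_iff]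
    exact congrArg Subtype.val (Subgroup.mem_center_iff.mp z.2 (⟨y, hy⟩ : (R : Subgroup G)))
  obtain ⟨s, hs⟩ := Chars.exists_multiset_irr
    (Chars.isCharacter_restrict (Chars.isCharacter_coe χ) (R : Subgroup G))
  have happ : ∀ x : (R : Subgroup G),
      (χ : G → ℂ) x = (s.map fun ψ : IrrCharacter (R : Subgroup G) => (ψ : ↥(R : Subgroup G) → ℂ) x).sum := by
    intro x
    have := congrFun hs x
    simp only [Pi.multiset_sum_apply, Multiset.map_map, Function.comp_def] at this
    exact this
  have hsum : r = (s.map fun ψ : IrrCharacter (R : Subgroup G) => charDegree (ψ : ↥(R : Subgroup G) → ℂ)).sum := by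
    have h := happ 1
    rw [OneMemClass.coe_one, ← Chars.coe_charDegree, hd] at h
    apply Nat.cast_injective (R := ℂ)
    rw [h, Nat.cast_multiset_sum, Multiset.map_map]
    refine congrArg _ (Multiset.map_congr rfl fun ψ _ => ?_)
    exact (Chars.coe_charDegree ψ).symm
  have hall : ∀ ψ ∈ s, charDegree (ψ : ↥(R : Subgroup G) → ℂ) = 1 := by
    intro ψ hψ
    obtain ⟨n, hn⟩ := R.2.exists_card_eq
    have h1 := Chars.charDegree_dvd_card ψ
    rw [hn] at h1
    obtain ⟨i, -, hi⟩ := (Nat.dvd_prime_pow hr.out).mp h1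
    rcases Nat.eq_zero_or_pos i with rfl | hi0
    · simpa using hi
    exfalso
    obtain ⟨t, rfl⟩ := Multiset.exists_cons_of_mem hψ
    have hge : r ≤ charDegree (ψ : ↥(R : Subgroup G) → ℂ) := hi ▸ Nat.le_self_pow hi0.ne' r
    rw [Multiset.map_cons, Multiset.sum_cons] at hsum
    have ht : t = 0 := by
      refine Multiset.eq_zero_of_forall_notMem fun φ hφ => ?_
      have h2 := Multiset.le_sum_of_mem (Multiset.mem_map_of_mem
        (fun ψ : IrrCharacter (R : Subgroup G) => charDegree (ψ : ↥(R : Subgroup G) → ℂ)) hφ)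
      have h3 := Chars.charDegree_pos φ
      omega
    subst ht
    have h4 := happ z
    rw [hvan] at h4
    simp only [Multiset.map_cons, Multiset.map_zero, Multiset.sum_cons, Multiset.sum_zero,
      add_zero] at h4
    have h5 := Chars.norm_map_of_mem_center ψ z.2
    rw [← h4, norm_zero] at h5
    exact Chars.map_one_ne_zero ψ (norm_eq_zero.mp h5.symm)
  refine ⟨⟨fun a b => ?_⟩⟩
  have hmem : ((a * b * a⁻¹ * b⁻¹ : (R : Subgroup G)) : G) ∈ Chars.charKer (χ : G → ℂ) := by
    rw [Chars.mem_charKer_iff (Chars.isCharacter_coe χ)]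
    rw [← OneMemClass.coe_one (R : Subgroup G), happ, happ]
    refine congrArg _ (Multiset.map_congr rfl fun ψ hψ => ?_)
    have h1 : (ψ : ↥(R : Subgroup G) → ℂ) 1 = 1 := by
      rw [← Chars.coe_charDegree, hall ψ hψ, Nat.cast_one]
    obtain ⟨l, hl⟩ := Chars.exists_linChar_eq ψ h1
    rw [← hl, Chars.linChar_apply, Chars.linChar_apply]
    simp
  rw [charKer_eq_bot hd1, Subgroup.mem_bot, OneMemClass.coe_eq_one] at hmem
  calc a * b = a * b * a⁻¹ * b⁻¹ * (b * a) := by group
    _ = b * a := by rw [hmem, one_mul]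

/-- a Sylow subgroup has order `r` when there is a character of degree `r` -/
theorem card_sylow_eq_of_degree (hna : ¬ IsMulCommutative G) {r : ℕ} [hr : Fact r.Prime]
    (R : Sylow r G) {χ : IrrCharacter G} (hd : charDegree (χ : G → ℂ) = r)
    (hdvd : r ∣ Nat.card G) : Nat.card (R : Subgroup G) = r := by
  have h := card_sylow_dvd hna R (isMulCommutative_sylow hna R hd) (χ := χ)
    (hd ▸ hr.out.one_lt) ⟨1, by rw [hd, pow_one]⟩
  rw [hd] at h
  rcases (Nat.dvd_prime hr.out).mp h with h1 | h1
  · exfalso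
    exact R.ne_bot_of_dvd_card hdvd (Subgroup.card_eq_one.mp h1)
  · exact h1

end CfsgLib.HerzogThree
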