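/-
Simple groups of order `3 p^a 2^b` with `a ≤ 2`.
-/
import Cfsg.Agent.S4441
import Cfsg.Agent.S0904
import Cfsg.Agent.S3331
import Cfsg.Agent.SmallSimple.Basic
import Cfsg.Agent.HerzogThree.Sixty

set_option autoImplicit false
set_option linter.style.haveILetI false

universe u

open Cfsg

namespace CfsgLib.HerzogThree

open CfsgLib

theorem odd_sq_near_two_pow {p i : ℕ} (hodd : Odd p) (hp : 5 ≤ p)
    (h : p ^ 2 + 1 = 2 ^ i ∨ p ^ 2 = 2 ^ i + 1) : False := by
  obtain ⟨k, rfl⟩ := hodd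
  rcases h with h | h
  · rcases i with _ | _ | i
    · nlinarith
    · norm_num at h; nlinarith
    · rw [pow_succ (2 : ℕ), pow_succ (2 : ℕ)] at h
      have e : (2 * k + 1) ^ 2 = 4 * (k * k + k) + 1 := by ring
      omega
  · have e : (2 * k + 1) ^ 2 = (2 * k) * (2 * k + 2) + 1 := by ring
    have h' : (2 * k) * (2 * k + 2) = 2 ^ i := by omega
    obtain ⟨u, -, hu⟩ := (Nat.dvd_prime_pow Nat.prime_two).mp (Dvd.intro _ h')
    obtain ⟨v, -, hv⟩ := (Nat.dvd_prime_pow Nat.prime_two).mp (Dvd.intro_left _ h')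
    rcases u with _ | _ | u
    · omega
    · omega
    rcases v with _ | _ | v
    · omega
    · omega
    rw [pow_succ, pow_succ] at hu hv
    omega

theorem order_three {G : Type u} [Group G] [Finite G] [IsSimpleGroup G]
    (hna : ¬ IsMulCommutative G) {p a b : ℕ} (hp : p.Prime) (hp2 : p ≠ 2) (ha : a ≤ 2)
    (hcard : Nat.card G = 3 * p ^ a * 2 ^ b) :
    Nonempty (G ≃* alternatingGroup (Fin 5)) ∨
      Nonempty (G ≃* Matrix.ProjectiveSpecialLinearGroup (Fin 2) (ZMod 7)) := by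
  classical
  haveI := Fintype.ofFinite G
  haveI : Fact (Nat.Prime 3) := ⟨Nat.prime_three⟩
  haveI : Fact p.Prime := ⟨hp⟩
  have hsolv := not_isSolvable hna
  have hp3 : p ≠ 3 := by
    rintro rfl
    exact hsolv (Chars.Apps.isSolvable_of_card_eq_pow_mul_pow G Nat.prime_three Nat.prime_two
      (a := a + 1) (b := b) (by rw [hcard, pow_succ]; ring))
  have ha0 : a ≠ 0 := by
    rintro rfl
    exact hsolv (Chars.Apps.isSolvable_of_card_eq_pow_mul_pow G Nat.prime_three Nat.prime_two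
      (a := 1) (b := b) (by rw [hcard]; ring))
  have h3d : ¬ 3 ∣ p ^ a * 2 ^ b := by
    intro h
    rcases Nat.prime_three.dvd_mul.mp h with h | h
    · exact hp3 ((Nat.prime_dvd_prime_iff_eq Nat.prime_three hp).mp (Nat.prime_three.dvd_of_dvd_pow h)).symm
    · exact absurd (Nat.prime_three.dvd_of_dvd_pow h) (by norm_num)
  obtain ⟨-, -, hsyl⟩ := CfsgLib.SmallSimple.card_sylow_constraints 3 (p ^ a * 2 ^ b) (k := 1)
    (by rw [hcard, pow_one, mul_assoc]) h3d
  obtain ⟨R⟩ := (inferInstance : Nonempty (Sylow 3 G))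
  have hR : Nat.card (R : Subgroup G) = 3 := by simpa using (hsyl R).1
  obtain ⟨M, hM⟩ := Blocks.exists_isPModular 3 Nat.prime_three
  haveI := hM.2.1
  set e := (Subgroup.centralizer ((R : Subgroup G) : Set G)).relIndex
    (Subgroup.normalizer ((R : Subgroup G) : Set G)) with he
  have he1 : e ≠ 1 := fun h => SmallSimple.not_normalizer_le_centralizer hna 3
    (hcard ▸ dvd_mul_of_dvd_left (dvd_mul_right 3 _) _) R (Subgroup.relIndex_eq_one.1 h)
  have he2 : e ∣ 2 := by
    have key := Subgroup.card_dvd_of_injective _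
      (QuotientGroup.kerLift_injective (R : Subgroup G).normalizerMonoidHom)
    rw [Subgroup.normalizerMonoidHom_ker, ← Subgroup.index, ← Subgroup.relIndex] at key
    haveI : IsCyclic (R : Subgroup G) := isCyclic_of_prime_card (p := 3) hR
    rw [IsCyclic.card_mulAut, hR, Nat.totient_prime Nat.prime_three] at key
    exact key
  have he' : e = 2 := ((Nat.dvd_prime Nat.prime_two).mp he2).resolve_left he1
  obtain ⟨X, Y, hB, hdisj, hX, hY, εX, ε, hXp, hε, hYp, -, hrel⟩ :=
    Cfsg.Agent.S4441.result 3 M hM (by norm_num) R hR e rfl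
  rw [he'] at hX hY hYp
  rw [Nat.card_coe_set_eq, Set.ncard_eq_two] at hX
  obtain ⟨χ, χ', hne, rfl⟩ := hX
  rw [Nat.card_coe_set_eq, show (3 - 1) / 2 = 1 from rfl, Set.ncard_eq_one] at hY
  obtain ⟨θ, rfl⟩ := hY
  have hθ := hrel θ rfl 1 (by simp)
  rw [finsum_mem_pair hne] at hθ
  simp only [← Chars.coe_charDegree] at hθ
  set d := charDegree (χ : G → ℂ) with hd
  set d' := charDegree (χ' : G → ℂ) with hd'
  set d'' := charDegree (θ : G → ℂ) with hd''
  have hrelZ : ε * (d'' : ℤ) = εX χ * d + εX χ' * d' := by exact_mod_cast hθ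
  have hnz : ∀ n : ℕ, ((n : ℤ) ≡ 1 [ZMOD 3] ∨ (n : ℤ) ≡ -1 [ZMOD 3] ∨ (n : ℤ) ≡ 2 [ZMOD 3] ∨
      (n : ℤ) ≡ -2 [ZMOD 3]) → ¬ 3 ∣ n := by
    intro n hn h
    have : ((3 : ℕ) : ℤ) ∣ (n : ℤ) := Int.natCast_dvd_natCast.mpr h
    rcases hn with h' | h' | h' | h' <;> rw [Int.modEq_iff_dvd] at h' <;>
      have := Int.dvd_add h' this <;> simp at this <;> omega
  have hd3 : ¬ 3 ∣ d := hnz d (by
    obtain ⟨h1, h2, -⟩ := hXp χ (Set.mem_insert _ _)
    rcases h1 with h1 | h1 <;> rw [h1] at h2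
    · exact Or.inl h2
    · exact Or.inr (Or.inl h2))
  have hd'3 : ¬ 3 ∣ d' := hnz d' (by
    obtain ⟨h1, h2, -⟩ := hXp χ' (Set.mem_insert_of_mem _ rfl)
    rcases h1 with h1 | h1 <;> rw [h1] at h2
    · exact Or.inl h2
    · exact Or.inr (Or.inl h2))
  have hd''3 : ¬ 3 ∣ d'' := hnz d'' (by
    have h2 := hYp θ rfl
    rcases hε with h1 | h1 <;> rw [h1] at h2
    · exact Or.inr (Or.inr (Or.inl (by simpa using h2)))
    · exact Or.inr (Or.inr (Or.inr (by simpa using h2))))
  -- one of the three is principal, the other two have adjacent degrees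
  have hmem : Chars.oneChar G ∈ ({χ, χ'} : Set (IrrCharacter G)) ∪ {θ} :=
    hB ▸ Blocks.oneChar_mem_principalBlock
  have hθne : θ ≠ χ ∧ θ ≠ χ' := by
    constructor <;> intro h <;> exact Set.disjoint_left.mp hdisj (by simp [← h]) (Set.mem_singleton θ)
  have hone : ∀ φ : IrrCharacter G, φ ≠ Chars.oneChar G → 1 < charDegree (φ : G → ℂ) := fun φ hφ =>
    one_lt_charDegree hna fun h => hφ (Subtype.ext (h.trans Chars.oneChar_coe.symm))
  have hone1 : charDegree (Chars.oneChar G : G → ℂ) = 1 :=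
    Chars.charDegree_eq_of_map_one (by simp [Chars.oneChar_apply])
  obtain ⟨φ, ψ, hφ1, hψ1, hφ3, hψ3, hadj⟩ : ∃ φ ψ : IrrCharacter G,
      1 < charDegree (φ : G → ℂ) ∧ 1 < charDegree (ψ : G → ℂ) ∧ ¬ 3 ∣ charDegree (φ : G → ℂ) ∧
      ¬ 3 ∣ charDegree (ψ : G → ℂ) ∧
      (charDegree (φ : G → ℂ) + 1 = charDegree (ψ : G → ℂ)) := by
    have hs1 := (hXp χ (Set.mem_insert _ _)).1
    have hs2 := (hXp χ' (Set.mem_insert_of_mem _ rfl)).1
    rcases hmem with (h | h) | h
    · have e1 : d = 1 := by rw [hd, ← h, hone1]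
      have g2 := hone χ' (fun hh => hne (by rw [← h, hh]))
      have g3 := hone θ (fun hh => hθne.1 (by rw [← h, hh]))
      rcases (show d'' + 1 = d' ∨ d' + 1 = d'' by
        rcases hε with e | e <;> rcases hs1 with e' | e' <;> rcases hs2 with e'' | e'' <;>
          rw [e, e', e''] at hrelZ <;> omega) with hh | hh
      · exact ⟨θ, χ', g3, g2, hd''3, hd'3, hh⟩
      · exact ⟨χ', θ, g2, g3, hd'3, hd''3, hh⟩
    · have h : Chars.oneChar G = χ' := h
      have e1 : d' = 1 := by rw [hd', ← h, hone1]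
      have g1 := hone χ (fun hh => hne (by rw [← h, hh]))
      have g3 := hone θ (fun hh => hθne.2 (by rw [← h, hh]))
      rcases (show d'' + 1 = d ∨ d + 1 = d'' by
        rcases hε with e | e <;> rcases hs1 with e' | e' <;> rcases hs2 with e'' | e'' <;>
          rw [e, e', e''] at hrelZ <;> omega) with hh | hh
      · exact ⟨θ, χ, g3, g1, hd''3, hd3, hh⟩
      · exact ⟨χ, θ, g1, g3, hd3, hd''3, hh⟩
    · have h : Chars.oneChar G = θ := h
      have e1 : d'' = 1 := by rw [hd'', ← h, hone1]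
      have g1 := hone χ (fun hh => hθne.1 (by rw [← h, hh]))
      have g2 := hone χ' (fun hh => hθne.2 (by rw [← h, hh]))
      rcases (show d' + 1 = d ∨ d + 1 = d' by
        rcases hε with e | e <;> rcases hs1 with e' | e' <;> rcases hs2 with e'' | e'' <;>
          rw [e, e', e''] at hrelZ <;> omega) with hh | hh
      · exact ⟨χ', χ, g2, g1, hd'3, hd3, hh⟩
      · exact ⟨χ, χ', g1, g2, hd3, hd'3, hh⟩
  have hsupp : ∀ η : IrrCharacter G, ¬ 3 ∣ charDegree (η : G → ℂ) →
      TwoSupp p 2 (charDegree (η : G → ℂ)) := by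
    intro η h3 t ht htd
    have h1 := htd.trans (Chars.charDegree_dvd_card η)
    rw [hcard] at h1
    rcases ht.dvd_mul.mp h1 with h | h
    · rcases ht.dvd_mul.mp h with h' | h'
      · exact absurd ((Nat.prime_dvd_prime_iff_eq ht Nat.prime_three).mp h' ▸ htd) h3
      · exact Or.inl ((Nat.prime_dvd_prime_iff_eq ht hp).mp (ht.dvd_of_dvd_pow h'))
    · exact Or.inr ((Nat.prime_dvd_prime_iff_eq ht Nat.prime_two).mp (ht.dvd_of_dvd_pow h))
  have hcop : Nat.Coprime (charDegree (φ : G → ℂ)) (charDegree (ψ : G → ℂ)) := by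
    rw [← hadj]; exact Nat.coprime_self_add_right.mpr (Nat.coprime_one_right _)
  obtain ⟨r, s, i, j, hr, hs, hrs, hi, hj, hi0, hj0, hcov⟩ :=
    exists_prime_pows (hsupp φ hφ3) (hsupp ψ hψ3) hφ1 hψ1 hcop
  obtain ⟨η, i', j', hη, hη', hη1⟩ : ∃ (η : IrrCharacter G) (i' j' : ℕ),
      charDegree (η : G → ℂ) = p ^ j' ∧ (p ^ j' + 1 = 2 ^ i' ∨ p ^ j' = 2 ^ i' + 1) ∧
      1 < charDegree (η : G → ℂ) := by
    have hr' := hcov p (Or.inl rfl)
    have h2' := hcov 2 (Or.inr rfl)
    rcases hr' with h | h <;> rcases h2' with h' | h'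
    · omega
    · subst h; subst h'
      exact ⟨φ, j, i, hi, Or.inl (by rw [← hi, ← hj]; exact hadj), hφ1⟩
    · subst h; subst h'
      exact ⟨ψ, i, j, hj, Or.inr (by rw [← hi, ← hj]; exact hadj.symm), hψ1⟩
    · omega
  have hp5 : 5 ≤ p := by
    have := hp.two_le
    by_contra hlt
    interval_cases p <;> norm_num at *
  obtain ⟨S⟩ := (inferInstance : Nonempty (Sylow p G))
  have hpd : ¬ p ∣ 3 * 2 ^ b := by
    intro h
    rcases hp.dvd_mul.mp h with h | h
    · exact hp3 ((Nat.prime_dvd_prime_iff_eq hp Nat.prime_three).mp h)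
    · exact hp2 ((Nat.prime_dvd_prime_iff_eq hp Nat.prime_two).mp (hp.dvd_of_dvd_pow h))
  obtain ⟨-, -, hsyl'⟩ := CfsgLib.SmallSimple.card_sylow_constraints p (3 * 2 ^ b) (k := a)
    (by rw [hcard]; ring) hpd
  have hScard : Nat.card (S : Subgroup G) = p ^ a := (hsyl' S).1
  have ha12 : a = 1 ∨ a = 2 := by omega
  have hScomm : IsMulCommutative (S : Subgroup G) := by
    rcases ha12 with rfl | rfl
    · haveI : IsCyclic (S : Subgroup G) := isCyclic_of_prime_card (p := p) (by rw [hScard, pow_one])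
      exact ⟨⟨fun x y => (IsCyclic.commGroup (α := (S : Subgroup G))).mul_comm x y⟩⟩
    · exact IsPGroup.isMulCommutative_of_card_eq_prime_sq hScard
  have hdiv := card_sylow_dvd hna S hScomm hη1 ⟨j', hη⟩
  rw [hScard, hη] at hdiv
  have hle : a ≤ j' := (Nat.pow_dvd_pow_iff_le_right hp.one_lt).mp hdiv
  have hge : j' ≤ a := by
    have h1 := Chars.charDegree_dvd_card η
    rw [hη, hcard, show 3 * p ^ a * 2 ^ b = p ^ a * (3 * 2 ^ b) by ring] at h1
    exact (Nat.pow_dvd_pow_iff_le_right hp.one_lt).mp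
      (Nat.Coprime.dvd_of_dvd_mul_right (((hp.coprime_iff_not_dvd).mpr hpd).pow_left _) h1)
  obtain rfl : j' = a := le_antisymm hge hle
  rcases ha12 with rfl | rfl
  swap
  · exact (odd_sq_near_two_pow (hp.odd_of_ne_two hp2) hp5 hη').elim
  have hC := Cfsg.Agent.S0904.result 2 p 3 b 1 Nat.prime_two hp (Ne.symm hp2) (by norm_num) hp3
    (by rw [hcard]; ring) R
  rcases Cfsg.Agent.S3331.result (R : Subgroup G) hR hC with
    ⟨N, hN, hnil, -, hq3⟩ | ⟨N, hN, hcomm, -, ⟨f⟩⟩ | hiso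
  · rcases hN.eq_bot_or_eq_top with h | h
    · subst h
      exfalso
      have : Group.IsSolvable G := by
        rcases hq3 with hq | hf
        · exact Chars.Apps.isSolvable_of_card_eq_pow_mul_pow G Nat.prime_three Nat.prime_two
            (a := 1) (b := 0) (by rw [← Nat.card_congr QuotientGroup.quotientBot.toEquiv, hq]; norm_num)
        · exact Chars.Apps.isSolvable_of_card_eq_pow_mul_pow G Nat.prime_three Nat.prime_two
            (a := 1) (b := 1) (by
              rw [← Nat.card_congr QuotientGroup.quotientBot.toEquiv, Nat.card_congr hf.some.toEquiv,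
                Nat.card_perm, Nat.card_fin]; rfl)
      exact hsolv this
    · subst h
      exfalso
      haveI := hnil
      haveI : Group.IsNilpotent G :=
        Group.nilpotent_of_mulEquiv (G := (⊤ : Subgroup G)) Subgroup.topEquiv
      exact hsolv inferInstance
  · rcases hN.eq_bot_or_eq_top with h | h
    · subst h
      exact Or.inl ⟨(QuotientGroup.quotientBot.symm.trans f)⟩
    · subst h
      exact absurd ⟨⟨fun u v => congrArg Subtype.val
        (hcomm.is_comm.comm (⟨u, trivial⟩ : (⊤ : Subgroup G)) ⟨v, trivial⟩)⟩⟩ hna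
  · exact Or.inr hiso

end CfsgLib.HerzogThree
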